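import Mathlib
import Groth.Prelude
import Groth.Agent.Lib.Helper8.LCIHom.KAt2
import Groth.Agent.Lib.Helper8.KosQuot.Cancel
import Groth.Agent.Lib.Helper8.SyntSrc.Mor
import Groth.Agent.Lib.Helper5.AlgSp.LocPCalc

/-!
# `AlgSp.lci` as a morphism property of schemes: basic calculus
-/

set_option autoImplicit false

universe u

open CategoryTheory CategoryTheory.Limits AlgebraicGeometry MorphismProperty

namespace Groth.Agent.H8.AlgLCI

open Groth.Agent.H8.LCIHom Groth.Agent.H8.KosQuot Groth.Agent.H8.SyntSrc Groth.Agent.H8.SyntLocal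
open Groth.Agent.H5.EtSrc

/-- The prelude's `AlgSp.lci` is the affine-local property `LCIP`. -/
theorem lci_eq : (AlgSp.lci : MorphismProperty Scheme.{u}) = LCIP := by
  ext X Y f
  exact (lcip_iff_forall_isKoszulAt f).symm

theorem etale_le_lcip : (@Etale : MorphismProperty Scheme.{u}) ≤ LCIP := by
  intro X Y f hf
  have : Etale f := hf
  exact lcip_of_smooth f

theorem smooth_le_lcip : (@Smooth : MorphismProperty Scheme.{u}) ≤ LCIP := by
  intro X Y f hf
  have : Smooth f := hf
  exact lcip_of_smooth f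

theorem syntomicP_of_etale {X Y : Scheme.{u}} (g : X ⟶ Y) [Etale g] : SyntomicP g :=
  (syntomicP_iff g).mpr ⟨inferInstance, lcip_of_smooth g⟩

instance : IsEtaleLocalSource LCIP.{u} where
  of_comp g f hg hs h := by
    have : Etale g := hg
    have : Surjective g := hs
    exact lcip_of_comp_syntomic g (syntomicP_of_etale g) f h

instance : IsEtaleLocalSource AlgSp.lci.{u} := by
  rw [lci_eq]; infer_instance

instance : AlgSp.lci.{u}.IsStableUnderComposition := by
  rw [lci_eq]; infer_instance

theorem etale_le_lci : (@Etale : MorphismProperty Scheme.{u}) ≤ AlgSp.lci := by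
  rw [lci_eq]; exact etale_le_lcip

theorem lci_of_comp_smooth {X Y Z : Scheme.{u}} (u : X ⟶ Y) (v : Y ⟶ Z)
    (h : AlgSp.lci (u ≫ v)) (hv : Smooth v) : AlgSp.lci u := by
  rw [lci_eq] at h ⊢
  exact lcip_of_lcip_comp_smooth u v h

end Groth.Agent.H8.AlgLCI
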