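import Mathlib
import Groth.Prelude
import Groth.Agent.Lib.Helper3.AlgSpCov.Basic

/-!
# Scheme-level base change calculus for properties stable under flat base change
and descending along fpqc covers; the "section trick".
-/

set_option autoImplicit false
set_option linter.overlappingInstances false

universe u

open CategoryTheory CategoryTheory.Limits AlgebraicGeometry MorphismProperty

namespace Groth.Agent.H8.AlgLCI

open Groth.Agent.H5.AlgSp Groth.Agent.H3.AlgSpCov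

/-- `P` is stable under flat base change. -/
def FlatBC (P : MorphismProperty Scheme.{u}) : Prop :=
  ∀ ⦃X Y X' Y' : Scheme.{u}⦄ (f : X ⟶ Y) (g : Y' ⟶ Y) (fst : X' ⟶ X) (f' : X' ⟶ Y'),
    IsPullback fst f' f g → Flat g → P f → P f'

/-- `P` holds for the base change of `h` along `ψ`. -/
def BCP (P : MorphismProperty Scheme.{u}) {U V T : Scheme.{u}} (h : U ⟶ V) (ψ : T ⟶ V) : Prop :=
  P (pullback.snd h ψ)

variable {P : MorphismProperty Scheme.{u}} [P.RespectsIso]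

lemma bcp_iff {A U V T : Scheme.{u}} {h : U ⟶ V} {ψ : T ⟶ V} {a : A ⟶ U} {b : A ⟶ T}
    (sq : IsPullback a b h ψ) : BCP P h ψ ↔ P b :=
  (prop_of_isPullback_snd_iff sq).symm

lemma bcp_comp_flat (hbc : FlatBC P) {U V T T' : Scheme.{u}} (h : U ⟶ V) (ψ : T ⟶ V)
    (ψ' : T' ⟶ T) (hψ' : Flat ψ') (H : BCP P h ψ) : BCP P h (ψ' ≫ ψ) := by
  have sq1 := IsPullback.of_hasPullback h ψ
  have sq2 := IsPullback.of_hasPullback (pullback.snd h ψ) ψ'
  rw [bcp_iff (sq2.paste_horiz sq1)]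
  exact hbc _ _ _ _ sq2 hψ' H

lemma bcp_of_comp_fpqc [P.DescendsAlong (@Surjective ⊓ @Flat ⊓ @QuasiCompact)]
    {U V T T' : Scheme.{u}} (h : U ⟶ V) (ψ : T ⟶ V) (ψ' : T' ⟶ T)
    (hψ' : (@Surjective ⊓ @Flat ⊓ @QuasiCompact : MorphismProperty Scheme.{u}) ψ')
    (H : BCP P h (ψ' ≫ ψ)) : BCP P h ψ := by
  have sq1 := IsPullback.of_hasPullback h ψ
  have sq2 := IsPullback.of_hasPullback (pullback.snd h ψ) ψ'
  have h2 : P (pullback.snd (pullback.snd h ψ) ψ') := (bcp_iff (sq2.paste_horiz sq1)).1 H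
  exact MorphismProperty.of_isPullback_of_descendsAlong sq2.flip hψ' h2

lemma bcp_of_finite_family [IsZariskiLocalAtTarget P]
    [P.DescendsAlong (@Surjective ⊓ @Flat ⊓ @QuasiCompact)]
    {U V T : Scheme.{u}} (h : U ⟶ V) (ψ : T ⟶ V) [IsAffine T] {m : ℕ} (W : Fin m → Scheme.{u})
    (c : ∀ j, W j ⟶ T) [∀ j, IsAffine (W j)] (hflat : ∀ j, Flat (c j))
    (hsurj : ∀ z : T, ∃ j, z ∈ Set.range (c j)) (H : ∀ j, BCP P h (c j ≫ ψ)) : BCP P h ψ := by
  refine of_finite_flat_family (P := P) (pullback.snd h ψ) W c hflat hsurj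
    (fun j => pullback (pullback.snd h ψ) (c j)) (fun j => pullback.fst _ _)
    (fun j => pullback.snd _ _) (fun j => IsPullback.of_hasPullback _ _) (fun j => ?_)
  have big := (IsPullback.of_hasPullback (pullback.snd h ψ) (c j)).paste_horiz
    (IsPullback.of_hasPullback h ψ)
  exact (bcp_iff big).1 (H j)

/-- The section trick, affine case. -/
lemma bcp_section_trick_affine (hbc : FlatBC P)
    [P.DescendsAlong (@Surjective ⊓ @Flat ⊓ @QuasiCompact)]
    {U V V' Wt Et : Scheme.{u}} (h : U ⟶ V) (ι : V' ⟶ V) [IsOpenImmersion ι] [IsAffine V']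
    [IsAffine Wt] [IsAffine Et] (ϕ' : Wt ⟶ V') [Flat ϕ'] (τt : Et ⟶ V) [Flat τt]
    (hτι : Set.range τt ⊆ Set.range ι) (σt : Wt ⟶ Et) (hσ : σt ≫ τt = ϕ' ≫ ι)
    (H : BCP P h τt) : BCP P h (ϕ' ≫ ι) := by
  let τ' : Et ⟶ V' := IsOpenImmersion.lift ι τt hτι
  have hτ' : τ' ≫ ι = τt := IsOpenImmersion.lift_fac ι τt hτι
  have hflat' : Flat τ' :=
    MorphismProperty.of_postcomp (W := @Flat) (W' := @IsOpenImmersion) τ' ι inferInstance
      (by rw [hτ']; infer_instance)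
  have hστ : σt ≫ τ' = ϕ' := by
    rw [← cancel_mono ι, Category.assoc, hτ', hσ]
  have hcond : pullback.fst τ' ϕ' ≫ τt = pullback.snd τ' ϕ' ≫ (ϕ' ≫ ι) := by
    rw [← hτ', ← Category.assoc, pullback.condition, Category.assoc]
  have H1 : BCP P h (pullback.fst τ' ϕ' ≫ τt) :=
    bcp_comp_flat hbc h τt (pullback.fst τ' ϕ') inferInstance H
  rw [hcond] at H1
  refine bcp_of_comp_fpqc h (ϕ' ≫ ι) (pullback.snd τ' ϕ') ⟨⟨⟨fun w => ?_⟩, inferInstance⟩, ?_⟩ H1
  · refine ⟨pullback.lift σt (𝟙 Wt) (by rw [hστ, Category.id_comp]) w, ?_⟩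
    rw [← Scheme.Hom.comp_apply, pullback.lift_snd]
    rfl
  · have : IsAffineHom (pullback.snd τ' ϕ') := isAffineHom_of_isAffine _
    infer_instance

/-- **The section trick.**  If `P` holds for the base change of `h` along a flat `τ : E ⟶ V`, and
`W ⟶ V' ⊆ V` (affine, flat) lifts étale-locally to `E`, then `P` holds for the base change of `h`
along `W ⟶ V`. -/
theorem bcp_section_trick (hbc : FlatBC P) [IsZariskiLocalAtTarget P]
    [P.DescendsAlong (@Surjective ⊓ @Flat ⊓ @QuasiCompact)]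
    {U V V' W E W'' : Scheme.{u}} (h : U ⟶ V) (ι : V' ⟶ V) [IsOpenImmersion ι] [IsAffine V']
    (c : W ⟶ V') [Flat c] [IsAffine W] (τ : E ⟶ V) [Flat τ] (ε : W'' ⟶ W) [Etale ε]
    [Surjective ε] (σ : W'' ⟶ E) (hσ : σ ≫ τ = ε ≫ c ≫ ι) (H : BCP P h τ) :
    BCP P h (c ≫ ι) := by
  -- local data
  have key : ∀ x : W'', ∃ (Wt : W''.Opens) (Et : E.Opens), IsAffineOpen Wt ∧ IsAffineOpen Et ∧
      x ∈ Wt ∧ Wt ≤ σ ⁻¹ᵁ Et ∧ Et ≤ τ ⁻¹ᵁ ι.opensRange := by
    intro x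
    have h1 : σ x ∈ τ ⁻¹ᵁ ι.opensRange := by
      change τ (σ x) ∈ Set.range ι
      rw [← Scheme.Hom.comp_apply, hσ]
      exact ⟨c (ε x), by simp⟩
    obtain ⟨Et, hEt, hxE, hEle⟩ :=
      (TopologicalSpace.Opens.isBasis_iff_nbhd.mp E.isBasis_affineOpens) h1
    have h2 : x ∈ σ ⁻¹ᵁ Et := hxE
    obtain ⟨Wt, hWt, hxW, hWle⟩ :=
      (TopologicalSpace.Opens.isBasis_iff_nbhd.mp W''.isBasis_affineOpens) h2
    exact ⟨Wt, Et, hWt, hEt, hxW, hWle, hEle⟩
  choose Wt Et hWt hEt hxW hWE hEι using key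
  -- finite subcover
  have hopen : ∀ x, IsOpen (ε '' (Wt x : Set W'')) := fun x => ε.isOpenMap _ (Wt x).2
  have hcov : (Set.univ : Set W) ⊆ ⋃ x, ε '' (Wt x : Set W'') := by
    intro w _
    obtain ⟨x, rfl⟩ := ε.surjective w
    exact Set.mem_iUnion.2 ⟨x, x, hxW x, rfl⟩
  obtain ⟨t, ht⟩ := isCompact_univ.elim_finite_subcover _ hopen hcov
  let x : Fin t.card → W'' := fun j => (t.equivFin.symm j : W'')
  have hx : ∀ j, x j ∈ t := fun j => (t.equivFin.symm j).2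
  have : ∀ j, IsAffine ((fun j => ((Wt (x j) : W''.Opens) : Scheme.{u})) j) := fun j => hWt (x j)
  refine bcp_of_finite_family h (c ≫ ι) (fun j => ((Wt (x j) : W''.Opens) : Scheme.{u}))
    (fun j => (Wt (x j)).ι ≫ ε) (fun j => inferInstance) (fun w => ?_) (fun j => ?_)
  · obtain ⟨y, hy, hw⟩ := Set.mem_iUnion₂.1 (ht (Set.mem_univ w))
    obtain ⟨z, hz, rfl⟩ := hw
    refine ⟨t.equivFin ⟨y, hy⟩, ⟨⟨z, ?_⟩, ?_⟩⟩
    · simpa [x] using hz
    · simp
  · have : IsAffine ((Et (x j) : E.Opens) : Scheme.{u}) := hEt (x j)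
    have H' : BCP P h ((Et (x j)).ι ≫ τ) := bcp_comp_flat hbc h τ _ inferInstance H
    have := bcp_section_trick_affine hbc h ι (((Wt (x j)).ι ≫ ε) ≫ c) ((Et (x j)).ι ≫ τ) ?_
      (σ.resLE (Et (x j)) (Wt (x j)) (hWE (x j))) ?_ H'
    · rwa [Category.assoc] at this
    · rintro _ ⟨e, rfl⟩
      have := hEι (x j) e.2
      simpa [Scheme.Hom.comp_apply] using this
    · rw [← Category.assoc, Scheme.Hom.resLE_comp_ι, Category.assoc, hσ]
      simp only [Category.assoc]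

end Groth.Agent.H8.AlgLCI
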