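import Mathlib
import Groth.Prelude
import Groth.Agent.Lib.Helper8.AlgLCI.BC
import Groth.Agent.Lib.Helper3.AlgSpCov.LocPBase

/-!
# `LocP P` for properties `P` stable only under flat base change:
flat base change and fpqc descent on the base for algebraic spaces.
-/

set_option autoImplicit false
set_option linter.overlappingInstances false

universe u

open CategoryTheory CategoryTheory.Limits AlgebraicGeometry MorphismProperty

namespace Groth.Agent.H8.AlgLCI

open Groth.Agent.H5.EtSrc Groth.Agent.H5.AlgSp Groth.Agent.H3.AlgSpCov _root_.AlgSp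

variable {S : Scheme.{u}} {F G H : Sp S}

/-- The hypotheses on `P` replacing stability under arbitrary base change. -/
structure EtGood (P : MorphismProperty Scheme.{u}) : Prop where
  comp : P.IsStableUnderComposition
  src : IsEtaleLocalSource P
  etale_le : (@Etale : MorphismProperty Scheme.{u}) ≤ P
  cancel : P.HasOfPostcompProperty @Etale

variable {P : MorphismProperty Scheme.{u}}

/-- If one chart diagram with surjective étale source chart has top arrow in `P`, then every chart
diagram does. -/
theorem locP_of_one_chart' (hP : EtGood P) {f : F ⟶ G} {U V : Over S}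
    (a : (yon S).obj U ⟶ F) (b : (yon S).obj V ⟶ G) (h : U ⟶ V) (ha : RepWith @Etale a)
    (has : RepWith @Surjective a) (hb : RepWith @Etale b)
    (comm : a ≫ f = (yon S).map h ≫ b) (hh : P h.left) : LocP P f := by
  intro U' V' a' b' h' ha' hb' comm'
  have := hP.cancel
  have := hP.comp
  have := hP.src
  have hPe := hP.etale_le
  -- `W = U ×_F U'`
  have sqW := ha.rep.isPullback a'
  have hp₂e : Etale (ha.rep.snd a').left := ha.property_snd a'
  have hp₂s : Surjective (ha.rep.snd a').left := has.property_snd a'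
  obtain ⟨p₁, hp₁⟩ := (yon S).map_surjective (ha.rep.fst a')
  have hp₁e : Etale p₁.left := by
    have : RepWith @Etale ((yon S).map p₁) := by
      rw [hp₁]
      exact MorphismProperty.of_isPullback (P := RepWith @Etale) sqW.flip ha'
    exact (repWith_yon_map_iff @Etale p₁).1 this
  -- `V'' = V ×_G V'`
  have sqV := hb.rep.isPullback b'
  have hq₂e : Etale (hb.rep.snd b').left := hb.property_snd b'
  obtain ⟨q₁, hq₁⟩ := (yon S).map_surjective (hb.rep.fst b')
  have hq₁e : Etale q₁.left := by
    have : RepWith @Etale ((yon S).map q₁) := by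
      rw [hq₁]
      exact MorphismProperty.of_isPullback (P := RepWith @Etale) sqV.flip hb'
    exact (repWith_yon_map_iff @Etale q₁).1 this
  -- the map `W ⟶ V''`
  have hw : (yon S).map (p₁ ≫ h) ≫ b = (yon S).map (ha.rep.snd a' ≫ h') ≫ b' := by
    rw [Functor.map_comp, Functor.map_comp, Category.assoc, Category.assoc, ← comm, ← comm',
      hp₁, ← Category.assoc, sqW.w, Category.assoc]
  obtain ⟨k, hk⟩ := (yon S).map_surjective (sqV.lift _ _ hw)
  have hk₁ : k ≫ q₁ = p₁ ≫ h := by
    apply (yon S).map_injective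
    rw [Functor.map_comp, hk, hq₁, sqV.lift_fst]
  have hk₂ : k ≫ hb.rep.snd b' = ha.rep.snd a' ≫ h' := by
    apply (yon S).map_injective
    rw [Functor.map_comp, hk, sqV.lift_snd]
  have h1 : P (p₁ ≫ h).left := by
    rw [Over.comp_left]
    exact P.comp_mem _ _ (hPe _ _ _ hp₁e) hh
  have h2 : P k.left := by
    rw [← hk₁, Over.comp_left] at h1
    exact P.of_postcomp (W' := @Etale) k.left q₁.left hq₁e h1
  have h3 : P (k ≫ hb.rep.snd b').left := by
    rw [Over.comp_left]
    exact P.comp_mem _ _ h2 (hPe _ _ _ hq₂e)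
  rw [hk₂, Over.comp_left] at h3
  exact IsEtaleLocalSource.of_comp _ _ hp₂e hp₂s h3

/-- `LocP P` can be checked after a surjective étale base change. -/
theorem locP_of_baseChange_etale_surjective' (hP : EtGood P)
    {F' G' : Sp S} {f : F ⟶ G} {p : G' ⟶ G} {fst : F' ⟶ F} {f' : F' ⟶ G'}
    (sq : IsPullback fst f' f p) (hF' : IsAlgSpace F') (hG' : IsAlgSpace G')
    (hpe : RepWith @Etale p) (hps : RepWith @Surjective p) (hf' : LocP P f') : LocP P f := by
  obtain ⟨V, b, hbe, hbs⟩ := hG'.atlas
  obtain ⟨U, a, h, hae, has, comm⟩ := exists_chart_diagram_surj hF' f' hbe hbs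
  have hfste : RepWith @Etale fst :=
    MorphismProperty.of_isPullback (P := RepWith @Etale) sq.flip hpe
  have hfsts : RepWith @Surjective fst :=
    MorphismProperty.of_isPullback (P := RepWith @Surjective) sq.flip hps
  refine locP_of_one_chart' hP (a ≫ fst) (b ≫ p) h ((RepWith @Etale).comp_mem _ _ hae hfste)
    ((RepWith @Surjective).comp_mem _ _ has hfsts) ((RepWith @Etale).comp_mem _ _ hbe hpe) ?_
    (hf' a b h hae hbe comm)
  rw [Category.assoc, sq.w, ← Category.assoc, comm, Category.assoc]

/-- Flat base change of a morphism to a scheme along a flat morphism of schemes. -/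
theorem locP_baseChange_scheme_flat (hP : EtGood P) (hbc : FlatBC P)
    {Q₀ Q₁ : Sp S} {V V' : Over S} {f₀ : Q₀ ⟶ (yon S).obj V} {k : V' ⟶ V} (hk : Flat k.left)
    {fst : Q₁ ⟶ Q₀}
    {f₁ : Q₁ ⟶ (yon S).obj V'} (sq : IsPullback fst f₁ f₀ ((yon S).map k))
    (hQ₀ : IsAlgSpace Q₀) (hf₀ : LocP P f₀) : LocP P f₁ := by
  obtain ⟨U, c, hce, hcs⟩ := hQ₀.atlas
  obtain ⟨h, hh⟩ := (yon S).map_surjective (c ≫ f₀)
  have hPh : P h.left := hf₀ c (𝟙 _) h hce (repWith_id _ V) (by rw [hh, Category.comp_id])
  have sqU : IsPullback ((yon S).map (pullback.fst h k)) ((yon S).map (pullback.snd h k))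
      ((yon S).map h) ((yon S).map k) := (IsPullback.of_hasPullback h k).map (yon S)
  have hw : ((yon S).map (pullback.fst h k) ≫ c) ≫ f₀ =
      (yon S).map (pullback.snd h k) ≫ (yon S).map k := by
    rw [Category.assoc, ← hh]
    exact sqU.w
  have left : IsPullback (sq.lift _ _ hw) ((yon S).map (pullback.fst h k)) fst c := by
    apply IsPullback.of_right (h₁₂ := f₁) (h₂₂ := f₀) _ (sq.lift_fst _ _ _) sq.flip
    rw [sq.lift_snd, ← hh]
    exact sqU.flip
  have hae : RepWith @Etale (sq.lift _ _ hw) :=
    MorphismProperty.of_isPullback (P := RepWith @Etale) left.flip hce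
  have has : RepWith @Surjective (sq.lift _ _ hw) :=
    MorphismProperty.of_isPullback (P := RepWith @Surjective) left.flip hcs
  refine locP_of_one_chart' hP (sq.lift _ _ hw) (𝟙 _) (pullback.snd h k) hae has
    (repWith_id _ V') (by rw [sq.lift_snd, Category.comp_id]) ?_
  exact hbc _ _ _ _ ((IsPullback.of_hasPullback h k).map (Over.forget S)) hk hPh

/-- `LocP P` is stable under flat base change. -/
theorem locP_of_isPullback_flat (hP : EtGood P) (hbc : FlatBC P)
    {F' G' : Sp S} {f : F ⟶ G} {g : G' ⟶ G} {fst : F' ⟶ F} {f' : F' ⟶ G'}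
    (sq : IsPullback fst f' f g) (hF : IsAlgSpace F) (hG : IsAlgSpace G) (hG' : IsAlgSpace G')
    (hg : LocP @Flat g) (hf : LocP P f) : LocP P f' := by
  obtain ⟨V, b, hbe, hbs⟩ := hG.atlas
  obtain ⟨V', b', k, hb'e, hb's, comm⟩ := exists_chart_diagram_surj hG' g hbe hbs
  have hk : Flat k.left := hg b' b k hb'e hbe comm
  have sq₀ := IsPullback.of_hasPullback f b
  have sq' := IsPullback.of_hasPullback f' b'
  have hQ₀ : IsAlgSpace (pullback f b) := isAlgSpace_pullback hG.diag hF (IsAlgSpace.yon_obj V) sq₀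
  have h₀ : LocP P (pullback.snd f b) := locP_of_isPullback_etale sq₀ hbe hf
  have hw : (pullback.fst f' b' ≫ fst) ≫ f = (pullback.snd f' b' ≫ (yon S).map k) ≫ b := by
    rw [Category.assoc, sq.w, ← Category.assoc, pullback.condition, Category.assoc, comm,
      Category.assoc]
  have big : IsPullback (pullback.fst f' b' ≫ fst) (pullback.snd f' b') f (b' ≫ g) :=
    (sq'.flip.paste_vert sq.flip).flip
  have left : IsPullback (sq₀.lift _ _ hw) (pullback.snd f' b') (pullback.snd f b)
      ((yon S).map k) := by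
    apply IsPullback.of_right (h₁₂ := pullback.fst f b) (h₂₂ := b) _ (sq₀.lift_snd _ _ _) sq₀
    rw [sq₀.lift_fst, ← comm]
    exact big
  have h' : LocP P (pullback.snd f' b') := locP_baseChange_scheme_flat hP hbc hk left hQ₀ h₀
  have hF' : IsAlgSpace F' := isAlgSpace_pullback hG.diag hF hG' sq
  have hQ' : IsAlgSpace (pullback f' b') :=
    isAlgSpace_pullback hG'.diag hF' (IsAlgSpace.yon_obj V') sq'
  exact locP_of_baseChange_etale_surjective' hP sq' hQ' (IsAlgSpace.yon_obj V') hb'e hb's h'

end Groth.Agent.H8.AlgLCI
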