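import Mathlib
import Groth.Prelude
import Groth.Agent.Lib.Helper8.AlgLCI.LocPFlat

/-!
# fpqc locality on the base of `LocP P` for `P` stable only under flat base change
-/

set_option autoImplicit false
set_option linter.overlappingInstances false

universe u

open CategoryTheory CategoryTheory.Limits AlgebraicGeometry MorphismProperty

namespace Groth.Agent.H8.AlgLCI

open Groth.Agent.H5.EtSrc Groth.Agent.H5.AlgSp Groth.Agent.H3.AlgSpCov _root_.AlgSp

variable {S : Scheme.{u}}

variable {P : MorphismProperty Scheme.{u}}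

/-- The base change of `f` along `l' ≫ g` is a base change of `p` along `l'`. -/
lemma exists_isPullback_snd_of_lift {X Y Y' X' T : Sp S} {f : X ⟶ Y} {g : Y' ⟶ Y} {p : X' ⟶ Y'}
    {q : X' ⟶ X} (sq : IsPullback q p f g) (l' : T ⟶ Y') :
    ∃ t : pullback f (l' ≫ g) ⟶ X', IsPullback t (pullback.snd f (l' ≫ g)) p l' := by
  have hw : pullback.fst f (l' ≫ g) ≫ f = (pullback.snd f (l' ≫ g) ≫ l') ≫ g := by
    rw [pullback.condition, Category.assoc]
  have big : IsPullback (sq.lift _ _ hw ≫ q) (pullback.snd f (l' ≫ g)) f (l' ≫ g) := by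
    rw [sq.lift_fst]
    exact IsPullback.of_hasPullback _ _
  exact ⟨sq.lift _ _ hw, IsPullback.of_right big (sq.lift_snd _ _ hw) sq⟩

/-- Core lemma: the base change of a chart `h` of `f` along a flat affine `W ⟶ V' ⊆ V` which lifts to
a flat cover `Y' ⟶ Y` over which `f` has `LocP P`. -/
theorem bcp_of_lift (hbc : FlatBC P) [IsZariskiLocalAtTarget P]
    [P.DescendsAlong (@Surjective ⊓ @Flat ⊓ @QuasiCompact)]
    {X Y Y' X' : Sp S} (hY' : IsAlgSpace Y') (f : X ⟶ Y)
    (g : Y' ⟶ Y) (hg : LocP @Flat g) (p : X' ⟶ Y') (q : X' ⟶ X) (sq : IsPullback q p f g)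
    (hp : LocP P p) {V U V' W : Over S} (b : (yon S).obj V ⟶ Y) (hbe : RepWith @Etale b)
    (a : (yon S).obj U ⟶ pullback f b) (hae : RepWith @Etale a) (h : U ⟶ V)
    (hh : (yon S).map h = a ≫ pullback.snd f b)
    (ιo : V' ⟶ V) [IsOpenImmersion ιo.left] [IsAffine V'.left] (c : W ⟶ V') [Flat c.left]
    [IsAffine W.left] (l : (yon S).obj W ⟶ Y')
    (hl : l ≫ g = (yon S).map c ≫ (yon S).map ιo ≫ b) :
    BCP P h.left (c.left ≫ ιo.left) := by
  obtain ⟨D, d, hde, hds⟩ := hY'.atlas
  -- `E = V ×_Y D`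
  have sqE := hbe.rep.isPullback (d ≫ g)
  have heDe : Etale (hbe.rep.snd (d ≫ g)).left := hbe.property_snd _
  obtain ⟨τ, hτ⟩ := (yon S).map_surjective (hbe.rep.fst (d ≫ g))
  have hl'e : RepWith @Etale ((yon S).map (hbe.rep.snd (d ≫ g)) ≫ d) :=
    (RepWith @Etale).comp_mem _ _ ((repWith_yon_map_iff @Etale _).2 heDe) hde
  have hcommE : ((yon S).map (hbe.rep.snd (d ≫ g)) ≫ d) ≫ g = (yon S).map τ ≫ b := by
    rw [Category.assoc, hτ]
    exact sqE.w.symm
  have hτflat : Flat τ.left := hg _ b τ hl'e hbe hcommE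
  -- `LocP P` of the base change of `f` to `E`
  have hQ : LocP P (pullback.snd f ((yon S).map τ ≫ b)) := by
    have key : ∀ (x : (yon S).obj (hbe.rep.pullback (d ≫ g)) ⟶ Y),
        x = (yon S).map τ ≫ b → LocP P (pullback.snd f x) →
        LocP P (pullback.snd f ((yon S).map τ ≫ b)) := by
      rintro x rfl h
      exact h
    refine key _ hcommE ?_
    obtain ⟨t, left⟩ := exists_isPullback_snd_of_lift sq ((yon S).map (hbe.rep.snd (d ≫ g)) ≫ d)
    exact locP_of_isPullback_etale left hl'e hp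
  have hE : BCP P h.left τ.left := by
    have sqS : IsPullback (pullback.fst h τ).left (pullback.snd h τ).left h.left τ.left :=
      (IsPullback.of_hasPullback h τ).map (Over.forget S)
    rw [bcp_iff sqS]
    exact prop_chart_baseChange f b a hae h hh τ hQ
  -- `W'' = W ×_{Y'} D`
  have sqW := hde.rep.isPullback l
  have hεe : Etale (hde.rep.snd l).left := hde.property_snd l
  have hεs : Surjective (hde.rep.snd l).left := hds.property_snd l
  have hwσ : (yon S).map (hde.rep.snd l ≫ c ≫ ιo) ≫ b = hde.rep.fst l ≫ (d ≫ g) := by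
    rw [← Category.assoc (hde.rep.fst l), sqW.w, Category.assoc, hl, Functor.map_comp,
      Functor.map_comp, Category.assoc, Category.assoc]
  obtain ⟨σ, hσ⟩ := (yon S).map_surjective
    (sqE.lift ((yon S).map (hde.rep.snd l ≫ c ≫ ιo)) (hde.rep.fst l ≫ 𝟙 _) (by
      rw [Category.comp_id]; exact hwσ))
  have hστ : σ ≫ τ = hde.rep.snd l ≫ c ≫ ιo := by
    apply (yon S).map_injective
    rw [Functor.map_comp, hσ, hτ, sqE.lift_fst]
  have hστ' : σ.left ≫ τ.left = (hde.rep.snd l).left ≫ c.left ≫ ιo.left := by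
    have := congrArg (fun φ => φ.left) hστ
    simpa using this
  exact bcp_section_trick hbc h.left ιo.left c.left τ.left (hde.rep.snd l).left σ.left hστ' hE

/-- fpqc descent on the base for `LocP P`. -/
theorem locP_of_fpqcCover (hP : EtGood P) (hbc : FlatBC P) [IsZariskiLocalAtTarget P]
    [P.DescendsAlong (@Surjective ⊓ @Flat ⊓ @QuasiCompact)]
    {ι : Type u} {Y : Sp S} (Yi : ι → Sp S) (g : ∀ i, Yi i ⟶ Y) (hY : IsAlgSpace Y)
    (hYi : ∀ i, IsAlgSpace (Yi i)) (hcov : IsFpqcCover Yi g) {X : Sp S} (f : X ⟶ Y)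
    (hX : IsAlgSpace X) (Xi : ι → Sp S) (p : ∀ i, Xi i ⟶ Yi i) (q : ∀ i, Xi i ⟶ X)
    (sq : ∀ i, IsPullback (q i) (p i) f (g i)) (hp : ∀ i, LocP P (p i)) : LocP P f := by
  obtain ⟨V, b, hbe, hbs⟩ := hY.atlas
  have sqV := IsPullback.of_hasPullback f b
  have hXV : IsAlgSpace (pullback f b) :=
    isAlgSpace_pullback hY.diag hX (IsAlgSpace.yon_obj V) sqV
  refine locP_of_baseChange_etale_surjective' hP sqV hXV (IsAlgSpace.yon_obj V) hbe hbs ?_
  obtain ⟨U, a, hae, has⟩ := hXV.atlas
  obtain ⟨h, hh⟩ := (yon S).map_surjective (a ≫ pullback.snd f b)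
  refine locP_of_one_chart' hP a (𝟙 _) h hae has (repWith_id _ V)
    (by rw [hh, Category.comp_id]) ?_
  rw [IsZariskiLocalAtTarget.iff_of_openCover (P := P) V.left.affineCover]
  intro k
  let V' : Over S := Over.mk (V.left.affineCover.f k ≫ V.hom)
  let ιo : V' ⟶ V := Over.homMk (V.left.affineCover.f k) rfl
  have hV' : IsAffine V'.left := by dsimp [V']; infer_instance
  have hιo : IsOpenImmersion ιo.left :=
    inferInstanceAs (IsOpenImmersion (V.left.affineCover.f k))
  obtain ⟨m, W, c, haff, hflat, hsurj, hl⟩ := hcov.2 V' hV' ((yon S).map ιo ≫ b)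
  change BCP P h.left (V.left.affineCover.f k)
  have : IsAffine (V.left.affineCover.X k) := hV'
  have : ∀ j, IsAffine ((fun j => (W j).left) j) := haff
  refine bcp_of_finite_family h.left (V.left.affineCover.f k) (fun j => (W j).left)
    (fun j => (c j).left) hflat hsurj (fun j => ?_)
  obtain ⟨i, l, hl⟩ := hl j
  have := hflat j
  have := haff j
  exact bcp_of_lift hbc (hYi i) f (g i) (hcov.1 i) (p i) (q i) (sq i) (hp i) b hbe a hae h hh ιo
    (c j) l hl

/-- `LocP P` is fpqc local on the base, for `P` stable under flat base change and descending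
along fpqc covers. -/
theorem isLocalOnBase_fpqc_locP (hP : EtGood P) (hbc : FlatBC P) [IsZariskiLocalAtTarget P]
    [P.DescendsAlong (@Surjective ⊓ @Flat ⊓ @QuasiCompact)] :
    IsLocalOnBase (IsFpqcCover (S := S)) (LocP P) := by
  intro ι Y Yi g hY hYi hcov X f hX Xi p q hXi sq
  constructor
  · intro hf i
    exact locP_of_isPullback_flat hP hbc (sq i) hX hY (hYi i) (hcov.1 i) hf
  · intro hp
    exact locP_of_fpqcCover hP hbc Yi g hY hYi hcov f hX Xi p q sq hp

end Groth.Agent.H8.AlgLCI
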