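import Mathlib
import Groth.Prelude
import Groth.Agent.Lib.Helper8.AlgLCI.Fpqc
import Groth.Agent.Lib.Helper8.AlgLCI.Basic
import Groth.Agent.Lib.Helper8.KosBCImm.KAt
import Groth.Agent.Lib.Helper8.LCIHom.Descent

/-!
# LCI morphisms of algebraic spaces are fpqc local on the base
-/

set_option autoImplicit false
set_option linter.overlappingInstances false

universe u

open CategoryTheory CategoryTheory.Limits AlgebraicGeometry MorphismProperty

namespace Groth.Agent.H8.AlgLCI

open Groth.Agent.H8.LCIHom Groth.Agent.H8.KosQuot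
open Groth.Agent.H5.EtSrc Groth.Agent.H5.AlgSp Groth.Agent.H3.AlgSpCov _root_.AlgSp

theorem etGood_lcip : EtGood LCIP.{u} where
  comp := inferInstance
  src := inferInstance
  etale_le := etale_le_lcip
  cancel := ⟨fun f g hg hfg => by
    have : Etale g := hg
    exact lcip_of_lcip_comp_smooth f g hfg⟩

theorem flatBC_lcip : FlatBC LCIP.{u} := by
  intro X Y X' Y' f g fst f' sq hg hf
  have : Flat g := hg
  rw [lcip_iff_forall_isKoszulAt] at hf ⊢
  exact Groth.Agent.H8.KosBCImm.isKoszulAt_baseChange_flat f g f' fst sq hf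

variable {S : Scheme.{u}}

theorem isLCIMor_eq : (AlgSp.IsLCIMor : MorphismProperty (Sp S)) = LocP LCIP := by
  unfold AlgSp.IsLCIMor
  rw [lci_eq]

/-- **LCI morphisms of algebraic spaces are fpqc local on the base.** -/
theorem isLocalOnBase_fpqc_isLCIMor :
    IsLocalOnBase (IsFpqcCover (S := S)) AlgSp.IsLCIMor := by
  rw [isLCIMor_eq]
  exact isLocalOnBase_fpqc_locP etGood_lcip flatBC_lcip

/-- Flat base change of LCI morphisms of algebraic spaces. -/
theorem isLCIMor_of_isPullback_flat {F G F' G' : Sp S} {f : F ⟶ G} {g : G' ⟶ G} {fst : F' ⟶ F}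
    {f' : F' ⟶ G'} (sq : IsPullback fst f' f g) (hF : IsAlgSpace F) (hG : IsAlgSpace G)
    (hG' : IsAlgSpace G') (hg : LocP @Flat g) (hf : AlgSp.IsLCIMor f) : AlgSp.IsLCIMor f' := by
  rw [isLCIMor_eq] at hf ⊢
  exact locP_of_isPullback_flat etGood_lcip flatBC_lcip sq hF hG hG' hg hf

end Groth.Agent.H8.AlgLCI
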