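import Mathlib
import Groth.Prelude
import Groth.Agent.Lib.Helper8.AlgLCI.Basic

/-!
# Koszul-regular immersions of algebraic spaces are LCI morphisms
-/

set_option autoImplicit false

universe u

open CategoryTheory CategoryTheory.Limits AlgebraicGeometry MorphismProperty

namespace Groth.Agent.H8.AlgLCI

open Groth.Agent.H8.LCIHom Groth.Agent.H8.KosQuot Groth.Agent.H8.SyntSrc Groth.Agent.H8.SyntLocal
open Groth.Agent.H5.EtSrc Groth.Agent.H5.AlgSp _root_.AlgSp

variable {S : Scheme.{u}}

/-- Cancellation of étale charts: if `h_k ≫ φ` and `φ` are étale then `k` is étale. -/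
theorem etale_of_comp_etale {U W : Over S} {F : Sp S} (k : U ⟶ W) (φ : (yon S).obj W ⟶ F)
    (hφ : RepWith @Etale φ) (ha : RepWith @Etale ((yon S).map k ≫ φ)) : Etale k.left := by
  have := hasOfPostcompProperty_etale (P := @Etale) le_rfl
  have sq := hφ.rep.isPullback ((yon S).map k ≫ φ)
  have hsnd : Etale (hφ.rep.snd ((yon S).map k ≫ φ)).left := hφ.property_snd _
  obtain ⟨p₁, hp₁⟩ := (yon S).map_surjective (hφ.rep.fst ((yon S).map k ≫ φ))
  have hp₁e : Etale p₁.left := by
    have : RepWith @Etale ((yon S).map p₁) := by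
      rw [hp₁]
      exact MorphismProperty.of_isPullback (P := RepWith @Etale) sq.flip ha
    exact (repWith_yon_map_iff @Etale p₁).1 this
  obtain ⟨s, hs⟩ := (yon S).map_surjective
    (sq.lift ((yon S).map k) (𝟙 _) (by rw [Category.id_comp]))
  have hs₁ : s ≫ p₁ = k := by
    apply (yon S).map_injective
    rw [Functor.map_comp, hs, hp₁, sq.lift_fst]
  have hs₂ : s ≫ hφ.rep.snd ((yon S).map k ≫ φ) = 𝟙 _ := by
    apply (yon S).map_injective
    rw [Functor.map_comp, hs, sq.lift_snd, CategoryTheory.Functor.map_id]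
  have hse : Etale s.left := by
    refine MorphismProperty.of_postcomp (W := @Etale) (W' := @Etale) s.left
      (hφ.rep.snd ((yon S).map k ≫ φ)).left hsnd ?_
    rw [← Over.comp_left, hs₂]
    exact (inferInstance : Etale (𝟙 U.left))
  rw [← hs₁, Over.comp_left]
  infer_instance

/-- A Koszul-regular immersion of algebraic spaces is a local complete intersection morphism. -/
theorem isLCIMor_of_isRegImmMor {X Y : Sp S} (i : X ⟶ Y)
    (hi : AlgSp.IsRegImmMor RegImm.Kind.koszul i) : AlgSp.IsLCIMor i := by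
  intro U V a b h ha hb comm
  have sq := hi.1.isPullback b
  have hreg : RegImm.IsRegularImmersion .koszul (hi.1.snd b).left :=
    hi.2 b (hi.1.fst b) (hi.1.snd b) hb sq
  have hfst : RepWith @Etale (hi.1.fst b) :=
    MorphismProperty.of_isPullback (P := RepWith @Etale) sq.flip hb
  obtain ⟨k, hk⟩ := (yon S).map_surjective (sq.lift a ((yon S).map h) comm)
  have hk₁ : (yon S).map k ≫ hi.1.fst b = a := by rw [hk, sq.lift_fst]
  have hk₂ : k ≫ hi.1.snd b = h := by
    apply (yon S).map_injective
    rw [Functor.map_comp, hk, sq.lift_snd]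
  have hke : Etale k.left := etale_of_comp_etale k (hi.1.fst b) hfst (by rw [hk₁]; exact ha)
  change AlgSp.lci h.left
  rw [lci_eq, ← hk₂, Over.comp_left]
  exact lcip_comp _ _ (lcip_of_smooth k.left) (lcip_of_isRegularImmersion _ hreg)

end Groth.Agent.H8.AlgLCI
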