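import Mathlib
import Groth.Prelude
import Groth.Agent.Lib.Helper8.AlgLCI.RegImm
import Groth.Agent.Lib.Helper8.KosQuot.Imm

/-!
# An immersion of an étale chart of an LCI morphism into a smooth space is Koszul-regular
-/

set_option autoImplicit false

universe u

open CategoryTheory CategoryTheory.Limits AlgebraicGeometry MorphismProperty

namespace Groth.Agent.H8.AlgLCI

open Groth.Agent.H8.LCIHom Groth.Agent.H8.KosQuot Groth.Agent.H8.SyntSrc Groth.Agent.H8.SyntLocal
open Groth.Agent.H5.EtSrc Groth.Agent.H5.AlgSp _root_.AlgSp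

variable {S : Scheme.{u}}

theorem isRegImmMor_of_lci {X Y P U : Sp S} (hY : IsAlgSpace Y) (f : X ⟶ Y) (g : P ⟶ Y)
    (e : U ⟶ X) (i : U ⟶ P)
    (hc : i ≫ g = e ≫ f) (hf : AlgSp.IsLCIMor f) (hg : AlgSp.LocP @Smooth g)
    (he : AlgSp.IsEtaleMor e) (hi : AlgSp.RepWith @IsImmersion i) :
    AlgSp.IsRegImmMor RegImm.Kind.koszul i := by
  refine ⟨hi.1, fun V W b fst snd hb sq => ?_⟩
  have himm : IsImmersion snd.left := hi.2 b fst snd sq
  obtain ⟨T, c, hce, hcs⟩ := hY.atlas
  -- `V' = V ×_Y T`
  have sqV := hce.rep.isPullback (b ≫ g)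
  have hve : Etale (hce.rep.snd (b ≫ g)).left := hce.property_snd _
  have hvs : Surjective (hce.rep.snd (b ≫ g)).left := hcs.property_snd _
  obtain ⟨m, hm⟩ := (yon S).map_surjective (hce.rep.fst (b ≫ g))
  have hms : Smooth m.left := by
    refine hg ((yon S).map (hce.rep.snd (b ≫ g)) ≫ b) c m
      ((RepWith @Etale).comp_mem _ _ ((repWith_yon_map_iff @Etale _).2 hve) hb) hce ?_
    rw [Category.assoc, hm]
    exact sqV.w.symm
  -- `W' = W ×_V V'`
  have sqW := IsPullback.of_hasPullback snd (hce.rep.snd (b ≫ g))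
  have sqW' := sqW.map (Over.forget S)
  have hwe : Etale (pullback.fst snd (hce.rep.snd (b ≫ g))).left :=
    MorphismProperty.of_isPullback (P := @Etale) sqW'.flip hve
  have hws : Surjective (pullback.fst snd (hce.rep.snd (b ≫ g))).left :=
    MorphismProperty.of_isPullback (P := @Surjective) sqW'.flip hvs
  have himm' : IsImmersion (pullback.snd snd (hce.rep.snd (b ≫ g))).left :=
    MorphismProperty.of_isPullback (P := @IsImmersion) sqW' himm
  -- the chart for `f`
  have hfst : RepWith @Etale fst := MorphismProperty.of_isPullback (P := RepWith @Etale) sq.flip hb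
  have hae : RepWith @Etale (((yon S).map (pullback.fst snd (hce.rep.snd (b ≫ g))) ≫ fst) ≫ e) :=
    he _ ((RepWith @Etale).comp_mem _ _ ((repWith_yon_map_iff @Etale _).2 hwe) hfst)
  have hl : AlgSp.lci (pullback.snd snd (hce.rep.snd (b ≫ g)) ≫ m).left := by
    refine hf _ c _ hae hce ?_
    rw [Category.assoc, Category.assoc, ← hc, ← Category.assoc fst, sq.w, Category.assoc,
      ← Category.assoc, ← Functor.map_comp, sqW.w, Functor.map_comp, Functor.map_comp, hm,
      Category.assoc, Category.assoc, sqV.w]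
  rw [lci_eq, Over.comp_left] at hl
  have h1 : LCIP (pullback.snd snd (hce.rep.snd (b ≫ g))).left := by
    have := hms
    exact lcip_of_lcip_comp_smooth _ m.left hl
  have h2 : LCIP ((pullback.fst snd (hce.rep.snd (b ≫ g))).left ≫ snd.left) := by
    have := sqW'.w
    simp only [Over.forget_obj, Over.forget_map] at this
    rw [this]
    have := hve
    exact lcip_comp _ _ h1 (lcip_of_smooth _)
  have h3 : LCIP snd.left := IsEtaleLocalSource.of_comp _ _ hwe hws h2
  exact (isRegularImmersion_iff_lcip snd.left).2 h3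

end Groth.Agent.H8.AlgLCI
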